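import Groth.Agent.Lib.CAlgMisc.RelFP
import Mathlib

/-!
# Relative finite presentation: base change, localisation
-/

universe u

open TensorProduct

namespace GrothLib.RelFP19

open GrothLib.CAlgMisc

variable {R B : Type u} [CommRing R] [CommRing B] [Algebra R B] {M : Type u} [AddCommGroup M] [Module B M]

/-- Relative finite presentation can be tested through any finitely presented algebra. -/
theorem fpVia_iff_of_finitePresentation {P : Type u} [CommRing P] [Algebra R P]
    [Algebra.FinitePresentation R P] (α : P →ₐ[R] B) (hα : Function.Surjective α) {k : ℕ}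
    (β : MvPolynomial (Fin k) R →ₐ[R] B) (hβ : Function.Surjective β) :
    FPVia α.toRingHom M ↔ FPVia β.toRingHom M := by
  obtain ⟨N, π, hπ⟩ := Algebra.FiniteType.iff_quotient_mvPolynomial''.1
    (inferInstance : Algebra.FiniteType R P)
  rw [← fpVia_comp π (RingHom.Finite.of_surjective _ hπ) α]
  exact fpVia_iff_of_surjective (α.comp π) (hα.comp hπ) β hβ

omit [Algebra R B] in
/-- Finite presentation through a map only depends on the isomorphism class of the module. -/
theorem fpVia_of_equiv {T : Type u} [CommRing T] (f : T →+* B) {M' : Type u} [AddCommGroup M']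
    [Module B M'] (e : M ≃ₗ[B] M') (h : FPVia f M) : FPVia f M' := by
  let _ : Module T M := Module.compHom M f
  let _ : Module T M' := Module.compHom M' f
  have hfp : Module.FinitePresentation T M := h
  let e' : M →ₗ[T] M' := { toFun := e, map_add' := map_add e, map_smul' := fun t m => e.map_smul (f t) m }
  refine Module.finitePresentation_of_surjective e' e.surjective ?_
  rw [LinearMap.ker_eq_bot.2 (show Function.Injective e' from e.injective)]
  exact Submodule.fg_bot

/-- Base change of relative finite presentation. -/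
theorem fpVia_tensor {T P' A A' : Type u} [CommRing T] [CommRing P'] [CommRing A] [CommRing A']
    [Algebra T P'] [Algebra A A'] [Module A M] (α : T →+* A) (hα : Function.Surjective α)
    (φ : P' →+* A') (hφ : Function.Surjective φ)
    (hcomp : ∀ t, φ (algebraMap T P' t) = algebraMap A A' (α t))
    (J : Ideal P') (hJ : J.FG) (hJφ : J ≤ RingHom.ker φ)
    (hker : RingHom.ker φ ≤ (RingHom.ker α).map (algebraMap T P') ⊔ J)
    (hM : FPVia α M) : FPVia φ (A' ⊗[A] M) := by
  classical
  let _ : Module T M := Module.compHom M α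
  let _ : Module P' (A' ⊗[A] M) := Module.compHom (A' ⊗[A] M) φ
  have hfp : Module.FinitePresentation T M := hM
  let θ₀ : P' →+ M →+ A' ⊗[A] M :=
    AddMonoidHom.mk' (fun p => AddMonoidHom.mk' (fun m => φ p ⊗ₜ[A] m) (fun _ _ => tmul_add _ _ _))
      (fun p q => by ext m; simp [add_tmul])
  let θa : P' ⊗[T] M →+ A' ⊗[A] M := TensorProduct.liftAddHom θ₀ fun t p m => by
    show φ (t • p) ⊗ₜ[A] m = φ p ⊗ₜ[A] (α t • m)
    rw [Algebra.smul_def, map_mul, hcomp, ← Algebra.smul_def, smul_tmul]
  have hθsmul : ∀ (p : P') z, θa (p • z) = φ p • θa z := by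
    intro p z
    induction z using TensorProduct.induction_on with
    | zero => simp
    | tmul q m =>
      rw [smul_tmul', smul_eq_mul]
      show φ (p * q) ⊗ₜ[A] m = φ p • (φ q ⊗ₜ[A] m)
      rw [smul_tmul', smul_eq_mul, map_mul]
    | add a b ha hb => rw [smul_add, map_add, map_add, ha, hb, smul_add]
  let θ : P' ⊗[T] M →ₗ[P'] A' ⊗[A] M :=
    { toFun := θa, map_add' := map_add θa, map_smul' := fun p z => hθsmul p z }
  have hθ : Function.Surjective θ := by
    intro z
    induction z using TensorProduct.induction_on with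
    | zero => exact ⟨0, map_zero θa⟩
    | tmul a m =>
      obtain ⟨p, rfl⟩ := hφ a
      exact ⟨p ⊗ₜ m, rfl⟩
    | add a b ha hb =>
      obtain ⟨a', rfl⟩ := ha
      obtain ⟨b', rfl⟩ := hb
      exact ⟨a' + b', map_add θa a' b'⟩
  let N : Submodule P' (P' ⊗[T] M) := J • ⊤
  have hkill : ∀ x ∈ RingHom.ker φ, ∀ z : P' ⊗[T] M, x • z ∈ N := by
    intro x hx z
    have hx' := hker hx
    rw [Submodule.mem_sup] at hx'
    obtain ⟨y, hy, j, hj, rfl⟩ := hx'
    have hy0 : y • z = 0 := by
      clear hx
      induction hy using Submodule.span_induction with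
      | mem y hy =>
        obtain ⟨t, ht, rfl⟩ := hy
        induction z using TensorProduct.induction_on with
        | zero => simp
        | tmul q m =>
          rw [smul_tmul', smul_eq_mul, ← Algebra.smul_def, smul_tmul]
          show q ⊗ₜ[T] (α t • m) = 0
          rw [RingHom.mem_ker.1 ht, zero_smul, tmul_zero]
        | add a b ha hb => rw [smul_add, ha, hb, add_zero]
      | zero => simp
      | add a b _ _ ha hb => rw [add_smul, ha, hb, add_zero]
      | smul c a _ ha => rw [smul_assoc, ha, smul_zero]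
    rw [add_smul, hy0, zero_add]
    exact Submodule.smul_mem_smul hj trivial
  have hwd : ∀ (p q : P') (m : M), φ p = φ q →
      (Submodule.Quotient.mk (p ⊗ₜ[T] m) : (P' ⊗[T] M) ⧸ N) = Submodule.Quotient.mk (q ⊗ₜ m) := by
    intro p q m h
    rw [Submodule.Quotient.eq, ← sub_tmul,
      show p - q = (p - q) • (1 : P') by rw [smul_eq_mul, mul_one], ← smul_tmul']
    exact hkill _ (by rw [RingHom.mem_ker, map_sub, h, sub_self]) _
  choose σ hσ using hφ
  let ψ₀ : A' →+ M →+ (P' ⊗[T] M) ⧸ N :=
    AddMonoidHom.mk'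
      (fun a => AddMonoidHom.mk' (fun m => Submodule.Quotient.mk (σ a ⊗ₜ[T] m))
        (fun _ _ => by rw [tmul_add, Submodule.Quotient.mk_add]))
      (fun a b => by
        ext m
        show Submodule.Quotient.mk (σ (a + b) ⊗ₜ[T] m) =
          (Submodule.Quotient.mk (σ a ⊗ₜ[T] m) + Submodule.Quotient.mk (σ b ⊗ₜ[T] m) : (P' ⊗[T] M) ⧸ N)
        rw [← Submodule.Quotient.mk_add, ← add_tmul]
        exact hwd _ _ _ (by rw [map_add, hσ, hσ, hσ]))
  let ψ : A' ⊗[A] M →+ (P' ⊗[T] M) ⧸ N := TensorProduct.liftAddHom ψ₀ fun a a' m => by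
    obtain ⟨t, rfl⟩ := hα a
    show Submodule.Quotient.mk (σ (α t • a') ⊗ₜ[T] m) = Submodule.Quotient.mk (σ a' ⊗ₜ[T] (α t • m))
    rw [hwd (σ (α t • a')) (algebraMap T P' t * σ a') m
      (by rw [hσ, map_mul, hcomp, hσ, Algebra.smul_def]), ← Algebra.smul_def, smul_tmul]
    rfl
  have hψθ : ∀ z, ψ (θ z) = Submodule.Quotient.mk z := by
    intro z
    induction z using TensorProduct.induction_on with
    | zero =>
      show ψ (θa 0) = _
      rw [map_zero, map_zero]
      rfl
    | tmul p m => exact hwd _ _ _ (hσ _)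
    | add a b ha hb =>
      show ψ (θa (a + b)) = _
      rw [map_add, map_add, Submodule.Quotient.mk_add, ← ha, ← hb]
      rfl
  have hkereq : LinearMap.ker θ = N := by
    refine le_antisymm (fun z hz => ?_) (Submodule.smul_le.2 fun j hj z _ => ?_)
    · rw [← Submodule.Quotient.mk_eq_zero, ← hψθ, LinearMap.mem_ker.1 hz, map_zero]
    · rw [LinearMap.mem_ker]
      show θa (j • z) = 0
      rw [hθsmul, RingHom.mem_ker.1 (hJφ hj), zero_smul]
  show Module.FinitePresentation P' (A' ⊗[A] M)
  refine Module.finitePresentation_of_surjective θ hθ ?_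
  rw [hkereq]
  exact Submodule.FG.smul hJ Module.Finite.fg_top

/-- Base change along a finitely presented algebra, with the adapted presentation. -/
theorem exists_fpVia_tensor_of_finitePresentation {T A A' : Type u} [CommRing T] [CommRing A] [CommRing A']
    [Algebra A A'] [Algebra.FinitePresentation A A'] [Module A M] (α : T →+* A) (hα : Function.Surjective α)
    (hM : FPVia α M) :
    ∃ (N : ℕ) (φ : MvPolynomial (Fin N) T →+* A'), Function.Surjective φ ∧
      (∀ t, φ (MvPolynomial.C t) = algebraMap A A' (α t)) ∧ FPVia φ (A' ⊗[A] M) := by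
  classical
  obtain ⟨N, π, hπ, hπker⟩ := (inferInstance : Algebra.FinitePresentation A A').out
  obtain ⟨s, hs⟩ := hπker
  let φ : MvPolynomial (Fin N) T →+* A' := π.toRingHom.comp (MvPolynomial.map α)
  have hmap : Function.Surjective (MvPolynomial.map (σ := Fin N) α) := MvPolynomial.map_surjective α hα
  have hφ : Function.Surjective φ := hπ.comp hmap
  have hcomp : ∀ t, φ (MvPolynomial.C t) = algebraMap A A' (α t) := fun t => by simp [φ]
  choose lift hlift using hmap
  let J : Ideal (MvPolynomial (Fin N) T) := Ideal.span (lift '' (s : Set (MvPolynomial (Fin N) A)))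
  refine ⟨N, φ, hφ, hcomp, fpVia_tensor α hα φ hφ hcomp J (Submodule.fg_span (s.finite_toSet.image lift)) ?_ ?_ hM⟩
  · rw [Ideal.span_le]
    rintro _ ⟨h, hh, rfl⟩
    show π (MvPolynomial.map α (lift h)) = 0
    rw [hlift]
    exact (hs ▸ Submodule.subset_span hh : h ∈ RingHom.ker π)
  · intro x hx
    have hx1 : MvPolynomial.map α x ∈ J.map (MvPolynomial.map (σ := Fin N) α) := by
      have hle : RingHom.ker π.toRingHom ≤ J.map (MvPolynomial.map (σ := Fin N) α) := by
        rw [← hs]
        refine Submodule.span_le.2 fun h hh => ?_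
        rw [← hlift h]
        exact Ideal.mem_map_of_mem _ (Ideal.subset_span ⟨h, hh, rfl⟩)
      exact hle hx
    rw [← Ideal.mem_comap, Ideal.comap_map_of_surjective _ (fun y => ⟨lift y, hlift y⟩), ← RingHom.ker_eq_comap_bot,
      MvPolynomial.ker_map, sup_comm] at hx1
    exact hx1

end GrothLib.RelFP19
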